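import Cfsg.Agent.H216.Pi.Base

/-!
# S4324: the number of fused generators from Sylow counting (helper809)
-/

set_option autoImplicit false
set_option linter.unusedVariables false

namespace Cfsg.Agent.H809.PiSpor

open Subgroup Cfsg Cfsg.Agent.H216.Pi

universe u

variable {K : Type u} [Group K] [Finite K]

omit [Finite K] in
/-- the fused generators are the conjugates in `⟨y⟩` -/
theorem fus_eq_ncard {x : MulAut K} (hx : x ∈ (MulAut.conj : K →* MulAut K).range) (y : K) :
    fus x y = ({z : K | z ∈ zpowers y ∧ ∃ k : K, k * y * k⁻¹ = z} : Set K).ncard := by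
  have hcl : closure ({x} ∪ Set.range (MulAut.conj : K → MulAut K)) = (MulAut.conj : K →* MulAut K).range := by
    apply le_antisymm
    · rw [closure_le]
      rintro a (rfl | ⟨k, rfl⟩)
      · exact hx
      · exact ⟨k, rfl⟩
    · rintro _ ⟨k, rfl⟩
      exact subset_closure (Or.inr ⟨k, rfl⟩)
  unfold fus
  rw [hcl]
  have e : {z : K | z ∈ zpowers y ∧ ∃ k : K, k * y * k⁻¹ = z} =
      {z : K | z ∈ zpowers y ∧ ∃ α ∈ (MulAut.conj : K →* MulAut K).range, α y = z} := by
    ext z
    constructor
    · rintro ⟨h1, k, h2⟩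
      exact ⟨h1, MulAut.conj k, ⟨k, rfl⟩, h2⟩
    · rintro ⟨h1, _, ⟨k, rfl⟩, h2⟩
      exact ⟨h1, k, h2⟩
  rw [e, ← Nat.card_coe_set_eq]
  rfl

/-- the number of the conjugates of `y` in `⟨y⟩` is `|N(⟨y⟩) : C(y)|` -/
theorem card_normalizer (y : K) : Nat.card (normalizer ((zpowers y : Subgroup K) : Set K)) =
    ({z : K | z ∈ zpowers y ∧ ∃ k : K, k * y * k⁻¹ = z} : Set K).ncard * Nat.card (centralizer ({y} : Set K)) := by
  set N := normalizer ((zpowers y : Subgroup K) : Set K) with hN
  let _ : MulAction N K := MulAction.compHom K ((MulAut.conj : K →* MulAut K).comp N.subtype)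
  have hsm : ∀ (n : N) (a : K), n • a = (n : K) * a * (n : K)⁻¹ := fun _ _ => rfl
  have horb : MulAction.orbit N y = {z : K | z ∈ zpowers y ∧ ∃ k : K, k * y * k⁻¹ = z} := by
    ext z
    constructor
    · rintro ⟨n, rfl⟩
      refine ⟨?_, n, rfl⟩
      exact (mem_normalizer_iff.1 n.2 y).1 (mem_zpowers y)
    · rintro ⟨h1, k, h2⟩
      have h3 : (zpowers y).map (MulAut.conj k).toMonoidHom ≤ zpowers y := by
        rw [MonoidHom.map_zpowers, zpowers_le]
        show k * y * k⁻¹ ∈ zpowers y
        rw [h2]
        exact h1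
      have h4 : (zpowers y).map (MulAut.conj k).toMonoidHom = zpowers y := by
        refine Subgroup.eq_of_le_of_card_ge h3 ?_
        rw [Subgroup.card_map_of_injective (MulAut.conj k).injective]
      have hk : k ∈ N := by
        rw [hN, mem_normalizer_iff]
        intro a
        constructor
        · intro ha
          rw [← h4]
          exact ⟨a, ha, rfl⟩
        · intro ha
          rw [← h4] at ha
          obtain ⟨b, hb, hb'⟩ := ha
          have h5 : k * b * k⁻¹ = k * a * k⁻¹ := hb'
          have h6 : b = a := by simpa using h5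
          rw [← h6]
          exact hb
      exact ⟨⟨k, hk⟩, h2⟩
  have hstab : Nat.card (MulAction.stabilizer N y) = Nat.card (centralizer ({y} : Set K)) := by
    refine Nat.card_congr ⟨fun n => ⟨((n : N) : K), ?_⟩, fun a => ⟨⟨(a : K), ?_⟩, ?_⟩, fun n => rfl, fun a => rfl⟩
    · have h1 : ((n : N) : K) * y * ((n : N) : K)⁻¹ = y := n.2
      exact mem_centralizer_singleton_iff.2 (mul_inv_eq_iff_eq_mul.1 h1)
    · have h1 : (a : K) * y = y * a := mem_centralizer_singleton_iff.1 a.2
      rw [hN, mem_normalizer_iff]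
      have h2 : ∀ b ∈ zpowers y, (a : K) * b = b * a := by
        rintro _ ⟨j, rfl⟩
        exact ((show Commute (a : K) y from h1).zpow_right j).eq
      intro b
      constructor
      · intro hb
        rw [h2 b hb, mul_inv_cancel_right]
        exact hb
      · intro hb
        have h3 := h2 _ hb
        have h4 : (a : K) * b * (a : K)⁻¹ = b := by
          have h5 : (a : K) * ((a : K) * b * (a : K)⁻¹) = (a : K) * b := by rw [h3]; group
          exact mul_left_cancel h5
        rwa [h4] at hb
    · show (a : K) * y * (a : K)⁻¹ = y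
      rw [mul_inv_eq_iff_eq_mul]
      exact mem_centralizer_singleton_iff.1 a.2
  have h1 := (MulAction.stabilizer N y).card_mul_index
  rw [MulAction.index_stabilizer, hstab, horb] at h1
  rw [← h1, mul_comm]

/-- **fused generators from Sylow counting** -/
theorem fus_eq_of_card (hZ : center K = ⊥) {s : ℕ} (hs : s.Prime) {y : K}
    (hy : orderOf y = s) {c n e : ℕ} (hC : Nat.card (centralizer ({y} : Set K)) = s * c) (hc : ¬ s ∣ c)
    (hn : Nat.card K = s * n) (hsn : ¬ s ∣ n) (hmod : e * c ≡ n [MOD s]) (he0 : 0 < e) (he : e < s) {x : MulAut K}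
    (hx : x ∈ (MulAut.conj : K →* MulAut K).range) : fus x y = e := by
  have hsF : Fact s.Prime := ⟨hs⟩
  rw [fus_eq_ncard hx y]
  set S : Set K := {z : K | z ∈ zpowers y ∧ ∃ k : K, k * y * k⁻¹ = z} with hS
  have hN := card_normalizer y
  rw [← hS] at hN
  -- `⟨y⟩` is a Sylow subgroup
  have hPc : Nat.card (zpowers y) = s ^ 1 := by rw [Nat.card_zpowers, hy, pow_one]
  have hidx : ¬ s ∣ (zpowers y).index := by
    intro hd
    have h1 := (zpowers y).card_mul_index
    rw [hPc, pow_one, hn] at h1
    have h2 : (zpowers y).index = n := Nat.eq_of_mul_eq_mul_left hs.pos h1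
    exact hsn (h2 ▸ hd)
  let P : Sylow s K := (IsPGroup.of_card hPc).toSylow hidx
  have h1 : Nat.card (Sylow s K) ≡ 1 [MOD s] := card_sylow_modEq_one s K
  rw [Sylow.card_eq_index_normalizer P] at h1
  have hPe : ((P : Sylow s K) : Subgroup K) = zpowers y := rfl
  have h2 := (normalizer ((zpowers y : Subgroup K) : Set K)).card_mul_index
  change (normalizer ((zpowers y : Subgroup K) : Set K)).index ≡ 1 [MOD s] at h1
  set i := (normalizer ((zpowers y : Subgroup K) : Set K)).index with hi
  rw [hN, hC, hn] at h2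
  have h3 : S.ncard * c * i = n := by
    apply Nat.eq_of_mul_eq_mul_left hs.pos
    rw [← h2]
    ring
  have h4 : S.ncard * c ≡ n [MOD s] := by
    have h5 : S.ncard * c * i ≡ S.ncard * c * 1 [MOD s] := h1.mul_left _
    rw [h3, mul_one] at h5
    exact h5.symm
  have h5 : S.ncard * c ≡ e * c [MOD s] := h4.trans hmod.symm
  have h6 : S.ncard ≡ e [MOD s] :=
    Nat.ModEq.cancel_right_of_coprime ((Nat.Prime.coprime_iff_not_dvd hs).2 hc) h5
  -- `|S| < s`
  have h7 : S.ncard < s := by
    have h8 : S ⊆ (zpowers y : Set K) \ {1} := by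
      rintro z ⟨hz, k, hk⟩
      refine ⟨hz, ?_⟩
      intro h9
      have h9' : z = 1 := h9
      rw [h9'] at hk
      have h10 : y = 1 := by
        have : y = k⁻¹ * (k * y * k⁻¹) * k := by group
        rw [this, hk]; group
      rw [h10, orderOf_one] at hy
      exact hs.one_lt.ne hy
    have h9 := Set.ncard_le_ncard h8 (Set.toFinite _)
    rw [Set.ncard_sdiff_singleton_of_mem (one_mem _)] at h9
    have h10 : (zpowers y : Set K).ncard = s := by
      rw [← Nat.card_coe_set_eq]
      show Nat.card (zpowers y) = s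
      rw [hPc, pow_one]
    rw [h10] at h9
    have := hs.pos
    omega
  exact Nat.ModEq.eq_of_lt_of_lt h6 h7 he

end Cfsg.Agent.H809.PiSpor
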